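import Groth.Agent.ResProp.EF.K967.SmallOps
import Groth.Agent.ResProp.EF.K981.SmallH

/-!
# Homology of complexes of small objects; cohomology with coefficients in it

* `homC`: the comodule structure on `ker g / im f` (`f`, `g` `P`-linear and equivariant), `Small.homology`.
* `exists_small_of_homology`: model free form, for a homology object computed in any category of comodules
  (`j : Z → V₂` injective with image `ker g`, `q : Z → H` surjective with kernel `j⁻¹ (im f)`).
* `cohSmall`: `H^m(E, H ⊗ F)` vanishes above `r`, and is finite over `R` when `V₂` is finite over `P` and `F` over `R`.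
-/

set_option autoImplicit false

universe u

open TensorProduct

noncomputable section

namespace Groth.Agent.ResProp.EF.K967

open Groth.Agent.ResProp.EF.K981

section Hom

variable {k : Type u} [CommRing k] {O : Type u} [CommRing O] [Bialgebra k O]
  {P : Type u} [CommRing P] [Algebra k P] {D : Type u} [CommRing D] [Algebra k D]
  {π : P →ₐ[k] D} {ρD : D →ₐ[k] D ⊗[k] O}
  {V₁ : Type u} [AddCommGroup V₁] [Module k V₁] [Module P V₁] [IsScalarTower k P V₁]
  {V₂ : Type u} [AddCommGroup V₂] [Module k V₂] [Module P V₂] [IsScalarTower k P V₂]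
  {V₃ : Type u} [AddCommGroup V₃] [Module k V₃] [Module P V₃] [IsScalarTower k P V₃]
  {c₁ : HopfRep.Comod k O V₁} {c₂ : HopfRep.Comod k O V₂} {c₃ : HopfRep.Comod k O V₃}

theorem stable_ker [Module.Flat k O] {g : V₂ →ₗ[P] V₃} (hg : Equi c₂ c₃ g) : Stable c₂ (LinearMap.ker g) := by
  have := Stable.comap hg (Stable.bot (P := P) c₃)
  rwa [Submodule.comap_bot] at this

theorem stable_range {f : V₁ →ₗ[P] V₂} (hf : Equi c₁ c₂ f) : Stable c₂ (LinearMap.range f) := by
  have := Stable.map hf (Stable.top (P := P) c₁)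
  rwa [Submodule.map_top] at this

/-- the boundaries inside the cycles -/
abbrev bdry (f : V₁ →ₗ[P] V₂) (g : V₂ →ₗ[P] V₃) : Submodule P (LinearMap.ker g) :=
  (LinearMap.range f).comap (LinearMap.ker g).subtype

variable [Module.Flat k O]

/-- the comodule structure on `ker g / im f` -/
@[reducible] def homC {f : V₁ →ₗ[P] V₂} (hf : Equi c₁ c₂ f) {g : V₂ →ₗ[P] V₃} (hg : Equi c₂ c₃ g) :
    HopfRep.Comod k O (LinearMap.ker g ⧸ bdry f g) :=
  quotC (subC c₂ (LinearMap.ker g) (stable_ker hg)) (bdry f g)
    ((stable_range hf).comap (subC_hom c₂ _ (stable_ker hg)))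

theorem Small.ker {g : V₂ →ₗ[P] V₃} (hg : Equi c₂ c₃ g) (h : Small (P := P) π ρD c₂) :
    Small (P := P) π ρD (subC c₂ (LinearMap.ker g) (stable_ker hg)) :=
  Small.of_injective _ (subC_hom c₂ _ (stable_ker hg)) (Submodule.injective_subtype _) h

theorem Small.homology {f : V₁ →ₗ[P] V₂} (hf : Equi c₁ c₂ f) {g : V₂ →ₗ[P] V₃} (hg : Equi c₂ c₃ g)
    (h : Small (P := P) π ρD c₂) : Small (P := P) π ρD (homC hf hg) :=
  Small.of_surjective _ (quotC_hom _ _ _) (Submodule.mkQ_surjective _) (Small.ker hg h)

omit [Module.Flat k O] in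
/-- the quotient `V₂ / im f` (for truncations) -/
theorem Small.coker {f : V₁ →ₗ[P] V₂} (hf : Equi c₁ c₂ f) (h : Small (P := P) π ρD c₂) :
    Small (P := P) π ρD (quotC c₂ (LinearMap.range f) (stable_range hf)) :=
  Small.of_surjective _ (quotC_hom _ _ _) (Submodule.mkQ_surjective _) h

/-- Model free form: `Z → V₂` injective with image the submodule `K`, `Z → H` surjective with kernel the
preimage of the submodule `B`. -/
theorem exists_small_of_subquotient {Z H : Type u} [AddCommGroup Z] [Module k Z] [AddCommGroup H] [Module k H]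
    (cZ : HopfRep.Comod k O Z) (cH : HopfRep.Comod k O H)
    (K B : Submodule P V₂) (j : Z →ₗ[k] V₂) (hj : ∀ z, c₂.coact (j z) = j.rTensor O (cZ.coact z))
    (hinj : Function.Injective j) (hrange : ∀ v, v ∈ K ↔ ∃ z, j z = v)
    (q : Z →ₗ[k] H) (hq : ∀ z, cH.coact (q z) = q.rTensor O (cZ.coact z)) (hsurj : Function.Surjective q)
    (hker : ∀ z, q z = 0 ↔ j z ∈ B) (h : Small (P := P) π ρD c₂) :
    ∃ (_ : Module P H) (_ : IsScalarTower k P H), Small (P := P) π ρD cH ∧
      (IsNoetherianRing P → Module.Finite P V₂ → Module.Finite P H) := by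
  -- the `P`-structure on `Z`
  let e : Z ≃ₗ[k] (K.restrictScalars k) :=
    LinearEquiv.ofBijective (j.codRestrict (K.restrictScalars k) fun z => (hrange _).2 ⟨z, rfl⟩)
      ⟨fun a b hab => hinj (congrArg Subtype.val hab), fun v => by
        obtain ⟨z, hz⟩ := (hrange v).1 v.2
        exact ⟨z, Subtype.ext hz⟩⟩
  have he : ∀ z, ((e z : K.restrictScalars k) : V₂) = j z := fun z => rfl
  let mZ : Module P Z := e.toAddEquiv.module P
  have hsm : ∀ (p : P) (z : Z), j (p • z) = p • j z := by
    intro p z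
    have h1 : e (p • z) = p • e z := e.apply_symm_apply _
    rw [← he, ← he, h1]
    rfl
  have htZ : IsScalarTower k P Z := ⟨fun a p z => hinj (by
    rw [hsm, map_smul, hsm, smul_assoc])⟩
  let jP : Z →ₗ[P] V₂ := { j with map_smul' := hsm }
  have hZ : Small (P := P) π ρD cZ := Small.of_injective (c' := c₂) jP (fun z => hj z) hinj h
  -- the `P`-structure on `H`
  let Q : Submodule P Z := B.comap jP
  let φ : (Z ⧸ Q) →+ H := QuotientAddGroup.lift Q.toAddSubgroup q.toAddMonoidHom
    (fun z hz => (hker z).2 hz)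
  have hφ : ∀ z, φ (Q.mkQ z) = q z := fun z => rfl
  have hφb : Function.Bijective φ := by
    constructor
    · rw [injective_iff_map_eq_zero]
      intro x hx
      obtain ⟨z, rfl⟩ := Q.mkQ_surjective x
      rw [hφ] at hx
      exact (Submodule.Quotient.mk_eq_zero Q).2 ((hker z).1 hx)
    · intro y
      obtain ⟨z, rfl⟩ := hsurj y
      exact ⟨Q.mkQ z, rfl⟩
  let e' : (Z ⧸ Q) ≃+ H := AddEquiv.ofBijective φ hφb
  let mH : Module P H := e'.symm.module P
  have hsm' : ∀ (p : P) (z : Z), q (p • z) = p • q z := by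
    intro p z
    have h1 : p • q z = e' (p • e'.symm (q z)) := rfl
    have h2 : e'.symm (q z) = Q.mkQ z := (AddEquiv.symm_apply_eq e').2 (hφ z).symm
    rw [h1, h2, ← map_smul]
    rfl
  have htH : IsScalarTower k P H := ⟨fun a p y => by
    obtain ⟨z, rfl⟩ := hsurj y
    rw [← hsm', ← hsm', ← map_smul, smul_assoc]⟩
  let qP : Z →ₗ[P] H := { q with map_smul' := hsm' }
  refine ⟨mH, htH, Small.of_surjective (c := cZ) qP (fun z => hq z) hsurj hZ, fun hP hV => ?_⟩
  have : IsNoetherian P V₂ := isNoetherian_of_isNoetherianRing_of_finite P V₂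
  have : IsNoetherian P Z := isNoetherian_of_injective jP hinj
  exact Module.Finite.of_surjective qP hsurj

end Hom

section Coh

variable {R : Type u} [CommRing R] {A : Type u} [CommRing A] [HopfAlgebra R A]

/-- cohomology only depends on the comodule up to isomorphism -/
theorem surjective_mapH_of_equiv {V V' : Type u} [AddCommGroup V] [Module R V] [AddCommGroup V'] [Module R V']
    {c : HopfRep.Comod R A V} {c' : HopfRep.Comod R A V'} (e : V ≃ₗ[R] V')
    (h : Hom c c' e.toLinearMap) (n : ℕ) : Function.Surjective (mapH e.toLinearMap h n) := by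
  have hinv : Hom c' c e.symm.toLinearMap := by
    apply LinearMap.ext
    intro v
    obtain ⟨w, rfl⟩ := e.surjective v
    have h1 := LinearMap.congr_fun h w
    simp only [LinearMap.comp_apply, LinearEquiv.coe_coe] at h1 ⊢
    rw [h1, LinearEquiv.symm_apply_apply, ← LinearMap.comp_apply, ← LinearMap.rTensor_comp,
      LinearEquiv.symm_comp, LinearMap.rTensor_id, LinearMap.id_apply]
  have hcm : ∀ (n : ℕ) (x : (Hoch.cochain R A V' n : Type u)),
      cm (A := A) e.toLinearMap n (cm (A := A) e.symm.toLinearMap n x) = x := by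
    intro n
    induction n with
    | zero => intro x; exact e.apply_symm_apply x
    | succ n ih =>
      intro x
      change (cm (A := A) e.toLinearMap n).rTensor A ((cm (A := A) e.symm.toLinearMap n).rTensor A x) = x
      have h2 : cm (A := A) e.toLinearMap n ∘ₗ cm (A := A) e.symm.toLinearMap n = LinearMap.id :=
        LinearMap.ext ih
      rw [← LinearMap.comp_apply, ← LinearMap.rTensor_comp, h2, LinearMap.rTensor_id, LinearMap.id_apply]
  intro y
  obtain ⟨⟨x, hx⟩, rfl⟩ := mk_surjective c' n y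
  have hx0 : @Hoch.d R _ A _ _ V' _ _ c' n x = 0 := hx
  have hx' : cm (A := A) e.symm.toLinearMap n x ∈ @Hoch.cocycles R _ A _ _ V _ _ c n := by
    change @Hoch.d R _ A _ _ V _ _ c n (cm (A := A) e.symm.toLinearMap n x) = 0
    rw [cm_d_apply hinv, hx0, map_zero]
  exact ⟨@Hoch.H.mk R _ A _ _ V _ _ c n ⟨_, hx'⟩, mapH_mk _ h n _ _ (hcm n x).symm⟩

/-- the flip is an isomorphism of comodules -/
theorem hom_comm {V F : Type u} [AddCommGroup V] [Module R V] [AddCommGroup F] [Module R F]
    (c : HopfRep.Comod R A V) (d : HopfRep.Comod R A F) :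
    Hom (ComodTens.Comod.tensor c d) (ComodTens.Comod.tensor d c) (TensorProduct.comm R V F).toLinearMap := by
  have key : ∀ (x : V ⊗[R] A) (y : F ⊗[R] A),
      bb (y ⊗ₜ[R] x) = (TensorProduct.comm R V F).toLinearMap.rTensor A (bb (x ⊗ₜ[R] y)) := by
    intro x y
    induction x with
    | zero => simp
    | add a b ha hb => rw [TensorProduct.tmul_add, map_add, ha, hb, TensorProduct.add_tmul, map_add, map_add]
    | tmul v a =>
      induction y with
      | zero => simp
      | add a b ha hb => rw [TensorProduct.add_tmul, map_add, ha, hb, TensorProduct.tmul_add, map_add, map_add]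
      | tmul f b => simp [mul_comm]
  apply TensorProduct.ext'
  intro v f
  change (ComodTens.Comod.tensor d c).coact (f ⊗ₜ[R] v) =
    (TensorProduct.comm R V F).toLinearMap.rTensor A ((ComodTens.Comod.tensor c d).coact (v ⊗ₜ[R] f))
  rw [tensor_coact, tensor_coact, key]

variable [IsNoetherianRing R] [Module.Flat R A] {P : Type u} [CommRing P] [Algebra R P]
  {D : Type u} [CommRing D] [Algebra R D]
  {π : P →ₐ[R] D} {cD : K83.CoAlg R A D} {r : ℕ}
  {V : Type u} [AddCommGroup V] [Module R V] [Module P V] [IsScalarTower R P V]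
  {F : Type u} [AddCommGroup F] [Module R F]

/-- **Cohomology with coefficients in `V ⊗ F`**, `V` small, `F` any comodule. -/
theorem cohSmall (hπ : Function.Surjective π) (hfin : K83.FinOut R A D cD r) (c : HopfRep.Comod R A V)
    (d : HopfRep.Comod R A F) (h : Small (P := P) π cD.ρ c) :
    (∀ j, r < j → Subsingleton (@Hoch.H R _ A _ _ (V ⊗[R] F) _ _ (ComodTens.Comod.tensor c d) j)) ∧
    (IsNoetherianRing P → Module.Finite P V → Module.Finite R F →
      ∀ j, Module.Finite R (@Hoch.H R _ A _ _ (V ⊗[R] F) _ _ (ComodTens.Comod.tensor c d) j)) := by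
  obtain ⟨s⟩ := Small.tensor d h
  have := small_H hπ hfin s.n (V ⊗[R] F) (ComodTens.Comod.tensor c d) s rfl
  refine ⟨this.1, fun hP hV hF => this.2 hP ?_⟩
  exact Module.Finite.equiv (TensorProduct.AlgebraTensorModule.cancelBaseChange R P P V F)

/-- The same with the factors exchanged. -/
theorem cohSmall' (hπ : Function.Surjective π) (hfin : K83.FinOut R A D cD r) (c : HopfRep.Comod R A V)
    (d : HopfRep.Comod R A F) (h : Small (P := P) π cD.ρ c) :
    (∀ j, r < j → Subsingleton (@Hoch.H R _ A _ _ (F ⊗[R] V) _ _ (ComodTens.Comod.tensor d c) j)) ∧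
    (IsNoetherianRing P → Module.Finite P V → Module.Finite R F →
      ∀ j, Module.Finite R (@Hoch.H R _ A _ _ (F ⊗[R] V) _ _ (ComodTens.Comod.tensor d c) j)) := by
  obtain ⟨h1, h2⟩ := cohSmall hπ hfin c d h
  refine ⟨fun j hj => ?_, fun hP hV hF j => ?_⟩
  · have := h1 j hj
    exact (surjective_mapH_of_equiv _ (hom_comm c d) j).subsingleton
  · have := h2 hP hV hF j
    exact Module.Finite.of_surjective _ (surjective_mapH_of_equiv _ (hom_comm c d) j)

/-- **`H^m(E, H ⊗ F)` for a homology object `H`** (computed in any category of comodules) of a complex whose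
middle term `V` is small; `K` = cycles, `B` = boundaries, both `P`-submodules of `V`. -/
theorem cohSmall_of_subquotient (hπ : Function.Surjective π) (hfin : K83.FinOut R A D cD r)
    (c : HopfRep.Comod R A V) (d : HopfRep.Comod R A F) (h : Small (P := P) π cD.ρ c)
    {Z H : Type u} [AddCommGroup Z] [Module R Z] [AddCommGroup H] [Module R H]
    (cZ : HopfRep.Comod R A Z) (cH : HopfRep.Comod R A H)
    (K B : Submodule P V) (j : Z →ₗ[R] V) (hj : ∀ z, c.coact (j z) = j.rTensor A (cZ.coact z))
    (hinj : Function.Injective j) (hrange : ∀ v, v ∈ K ↔ ∃ z, j z = v)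
    (q : Z →ₗ[R] H) (hq : ∀ z, cH.coact (q z) = q.rTensor A (cZ.coact z)) (hsurj : Function.Surjective q)
    (hker : ∀ z, q z = 0 ↔ j z ∈ B) :
    (∀ m, r < m → Subsingleton (@Hoch.H R _ A _ _ (H ⊗[R] F) _ _ (ComodTens.Comod.tensor cH d) m)) ∧
    (IsNoetherianRing P → Module.Finite P V → Module.Finite R F →
      ∀ m, Module.Finite R (@Hoch.H R _ A _ _ (H ⊗[R] F) _ _ (ComodTens.Comod.tensor cH d) m)) := by
  obtain ⟨mH, tH, hs, hf⟩ := exists_small_of_subquotient cZ cH K B j hj hinj hrange q hq hsurj hker h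
  obtain ⟨h1, h2⟩ := cohSmall hπ hfin cH d hs
  exact ⟨h1, fun hP hV hF => h2 hP (hf hP hV) hF⟩

end Coh

end Groth.Agent.ResProp.EF.K967
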