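import Groth.Agent.ResProp.EF.K981.Small
import Groth.Prelude.Def_ComodTens

/-!
# Operations on small objects (S4 of 17731; on top of helper981's K981/Small)

* `Small.tensor`: `V` small and `F` any comodule: `V ⊗[k] F` (diagonal coaction) is small.
* `Small.of_iSup`: a `P`-module generated by the images of a family of small objects with a common bound.
* `Small.of_ext`: extensions.
-/

set_option autoImplicit false

universe u

open TensorProduct

noncomputable section

namespace Groth.Agent.ResProp.EF.K967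

open Groth.Agent.ResProp.EF.K981

section Tensor

variable {k : Type u} [CommRing k] {O : Type u} [CommRing O] [Bialgebra k O]
  {P : Type u} [CommRing P] [Algebra k P] {D : Type u} [CommRing D] [Algebra k D]
  {π : P →ₐ[k] D} {ρD : D →ₐ[k] D ⊗[k] O}
  {V : Type u} [AddCommGroup V] [Module k V] [Module P V] [IsScalarTower k P V]
  {F : Type u} [AddCommGroup F] [Module k F]

/-- `(v ⊗ a) ⊗ (f ⊗ b) ↦ (v ⊗ f) ⊗ ab`. -/
def bb : (V ⊗[k] O) ⊗[k] (F ⊗[k] O) →ₗ[k] (V ⊗[k] F) ⊗[k] O :=
  TensorProduct.map LinearMap.id (LinearMap.mul' k O) ∘ₗ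
    (AlgebraTensorModule.tensorTensorTensorComm k k k k V O F O).toLinearMap

@[simp] lemma bb_tmul (v : V) (a : O) (f : F) (b : O) :
    bb ((v ⊗ₜ[k] a) ⊗ₜ[k] (f ⊗ₜ[k] b)) = (v ⊗ₜ[k] f) ⊗ₜ[k] (a * b) := by
  simp [bb]

lemma tensor_coact (c : HopfRep.Comod k O V) (d : HopfRep.Comod k O F) (v : V) (f : F) :
    (ComodTens.Comod.tensor c d).coact (v ⊗ₜ[k] f) = bb (c.coact v ⊗ₜ[k] d.coact f) := rfl

variable (F) in
/-- the image of `W ⊗ F` in `V ⊗ F` -/
def tW (W : Submodule P V) : Submodule P (V ⊗[k] F) :=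
  LinearMap.range (TensorProduct.AlgebraTensorModule.map W.subtype (LinearMap.id : F →ₗ[k] F))

lemma tmul_mem_tW {W : Submodule P V} {w : V} (hw : w ∈ W) (f : F) : w ⊗ₜ[k] f ∈ tW (k := k) F W :=
  ⟨(⟨w, hw⟩ : W) ⊗ₜ[k] f, by simp⟩

/-- Induction for elements of `tW`. -/
lemma tW_le_iff {W : Submodule P V} (Q : AddSubmonoid (V ⊗[k] F))
    (h : ∀ w ∈ W, ∀ f : F, w ⊗ₜ[k] f ∈ Q) {y : V ⊗[k] F} (hy : y ∈ tW (k := k) F W) : y ∈ Q := by
  obtain ⟨z, rfl⟩ := hy
  induction z with
  | zero => rw [map_zero]; exact zero_mem _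
  | add a b ha hb => rw [map_add]; exact add_mem ha hb
  | tmul w f => simpa using h w w.2 f

lemma mq_bb (W : Submodule P V) (x : V ⊗[k] O) (hx : mq (k := k) (O := O) W x = 0) (y : F ⊗[k] O) :
    mq (k := k) (O := O) (tW (k := k) F W) (bb (x ⊗ₜ[k] y)) = 0 := by
  rw [← mem_range_iff] at hx
  obtain ⟨x, rfl⟩ := hx
  induction x with
  | zero => simp
  | add a b ha hb => rw [map_add, TensorProduct.add_tmul, map_add, map_add, ha, hb, add_zero]
  | tmul w a =>
    induction y with
    | zero => simp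
    | add c d hc hd => rw [TensorProduct.tmul_add, map_add, map_add, hc, hd, add_zero]
    | tmul f b =>
      rw [LinearMap.rTensor_tmul, bb_tmul, mq, LinearMap.rTensor_tmul]
      have : ((tW (k := k) F W).mkQ.restrictScalars k) (((W.restrictScalars k).subtype w) ⊗ₜ[k] f) = 0 :=
        (Submodule.Quotient.mk_eq_zero _).2 (tmul_mem_tW w.2 f)
      rw [this, TensorProduct.zero_tmul]

lemma act_bb (x : P ⊗[k] O) (u : V ⊗[k] O) (z : F ⊗[k] O) :
    act k O P (V ⊗[k] F) x (bb (u ⊗ₜ[k] z)) = bb (act k O P V x u ⊗ₜ[k] z) := by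
  induction x with
  | zero => simp
  | add a b ha hb => rw [map_add, LinearMap.add_apply, ha, hb, map_add, LinearMap.add_apply,
      TensorProduct.add_tmul, map_add]
  | tmul p a =>
    induction u with
    | zero => simp
    | add c d hc hd => rw [TensorProduct.add_tmul, map_add, map_add, hc, hd, map_add,
        TensorProduct.add_tmul, map_add]
    | tmul v b =>
      induction z with
      | zero => simp
      | add c d hc hd => rw [TensorProduct.tmul_add, map_add, map_add, hc, hd, TensorProduct.tmul_add,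
          map_add]
      | tmul f e =>
        rw [bb_tmul, act_tmul, act_tmul, bb_tmul, TensorProduct.smul_tmul', mul_assoc]

/-- **Tensor product of a small object with a comodule.** -/
theorem Small.tensor {c : HopfRep.Comod k O V} (d : HopfRep.Comod k O F) (h : Small (P := P) π ρD c) :
    Small (P := P) π ρD (ComodTens.Comod.tensor c d) := by
  obtain ⟨s⟩ := h
  refine ⟨⟨s.n, fun i => tW F (s.F i), ?_, ?_, ?_, ?_, ?_, ?_⟩⟩
  · intro i y hy
    exact tW_le_iff (tW F (s.F i)).toAddSubmonoid (fun w hw f => tmul_mem_tW (s.anti i hw) f) hy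
  · rw [s.zero, tW, LinearMap.range_eq_top]
    intro y
    induction y with
    | zero => exact ⟨0, map_zero _⟩
    | add a b ha hb =>
      obtain ⟨a', rfl⟩ := ha
      obtain ⟨b', rfl⟩ := hb
      exact ⟨a' + b', map_add _ _ _⟩
    | tmul v f => exact ⟨(⟨v, trivial⟩ : (⊤ : Submodule P V)) ⊗ₜ[k] f, by simp⟩
  · rw [s.last, eq_bot_iff]
    intro y hy
    refine tW_le_iff (⊥ : AddSubmonoid _) (fun w hw f => ?_) hy
    rw [Submodule.mem_bot] at hw
    rw [hw, TensorProduct.zero_tmul]
    exact zero_mem _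
  · intro i y hy
    refine tW_le_iff (LinearMap.ker (mq (k := k) (O := O) (tW F (s.F i)) ∘ₗ
      (ComodTens.Comod.tensor c d).coact)).toAddSubmonoid (fun w hw f => ?_) hy
    change mq (k := k) (O := O) (tW F (s.F i)) ((ComodTens.Comod.tensor c d).coact (w ⊗ₜ[k] f)) = 0
    rw [tensor_coact]
    exact mq_bb _ _ (s.stable i w hw) _
  · intro i p hp y hy
    refine tW_le_iff ((tW F (s.F (i + 1))).comap (LinearMap.lsmul P (V ⊗[k] F) p)).toAddSubmonoid
      (fun w hw f => ?_) hy
    change p • (w ⊗ₜ[k] f) ∈ tW F (s.F (i + 1))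
    rw [TensorProduct.smul_tmul']
    exact tmul_mem_tW (s.ker_smul i p hp w hw) f
  · intro i p x hx y hy
    let g : V ⊗[k] F →ₗ[k] ((V ⊗[k] F) ⧸ tW (k := k) F (s.F (i + 1))) ⊗[k] O :=
      mq (k := k) (O := O) (tW F (s.F (i + 1))) ∘ₗ
      ((ComodTens.Comod.tensor c d).coact ∘ₗ (Algebra.lsmul k k (V ⊗[k] F) p) -
        (act k O P (V ⊗[k] F) x) ∘ₗ (ComodTens.Comod.tensor c d).coact)
    refine tW_le_iff (LinearMap.ker g).toAddSubmonoid (fun w hw f => ?_) hy
    change mq (k := k) (O := O) (tW F (s.F (i + 1)))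
      ((ComodTens.Comod.tensor c d).coact (p • (w ⊗ₜ[k] f)) -
        act k O P (V ⊗[k] F) x ((ComodTens.Comod.tensor c d).coact (w ⊗ₜ[k] f))) = 0
    rw [TensorProduct.smul_tmul', tensor_coact, tensor_coact, act_bb, ← map_sub, ← TensorProduct.sub_tmul]
    exact mq_bb _ _ (s.semi i p x hx w hw) _

end Tensor

section Sum

variable {k : Type u} [CommRing k] {O : Type u} [CommRing O] [Bialgebra k O]
  {P : Type u} [CommRing P] [Algebra k P] {D : Type u} [CommRing D] [Algebra k D]
  {π : P →ₐ[k] D} {ρD : D →ₐ[k] D ⊗[k] O}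
  {V : Type u} [AddCommGroup V] [Module k V] [Module P V] [IsScalarTower k P V]

lemma mq_mono {W W' : Submodule P V} (h : W ≤ W') {x : V ⊗[k] O} (hx : mq (k := k) (O := O) W x = 0) :
    mq (k := k) (O := O) W' x = 0 := by
  have := mq_eq_zero_of_map (LinearMap.id : V →ₗ[P] V) W W' h x hx
  have h2 : ((LinearMap.id : V →ₗ[P] V).restrictScalars k).rTensor O x = x := by
    have : ((LinearMap.id : V →ₗ[P] V).restrictScalars k) = LinearMap.id := rfl
    rw [this, LinearMap.rTensor_id, LinearMap.id_apply]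
  rwa [h2] at this

/-- Beyond its length a small filtration is zero. -/
lemma SmallFil.eq_bot {c : HopfRep.Comod k O V} (s : SmallFil (P := P) π ρD c) {j : ℕ} (h : s.n ≤ j) :
    s.F j = ⊥ := by
  induction j, h using Nat.le_induction with
  | base => exact s.last
  | succ j _ ih => exact le_bot_iff.1 (ih ▸ s.anti j)

/-- Lengthen a small filtration. -/
def SmallFil.pad {c : HopfRep.Comod k O V} (s : SmallFil (P := P) π ρD c) (m : ℕ) (h : s.n ≤ m) :
    SmallFil (P := P) π ρD c :=
  { s with n := m, last := SmallFil.eq_bot s h }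

/-- **A `P`-module generated by the images of a family of small objects with a common bound is small.** -/
theorem Small.of_iSup {ι : Type*} {c : HopfRep.Comod k O V} (W : ι → Type u) [∀ i, AddCommGroup (W i)]
    [∀ i, Module k (W i)] [∀ i, Module P (W i)] [∀ i, IsScalarTower k P (W i)]
    (cW : ∀ i, HopfRep.Comod k O (W i)) (f : ∀ i, W i →ₗ[P] V) (hf : ∀ i, Equi (cW i) c (f i))
    (s : ∀ i, SmallFil (P := P) π ρD (cW i)) (n : ℕ) (hn : ∀ i, (s i).n ≤ n)
    (htop : ⨆ i, LinearMap.range (f i) = ⊤) : Small (P := P) π ρD c := by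
  have key : ∀ (j : ℕ) (Q : AddSubmonoid V), (∀ i, ∀ w ∈ (s i).F j, f i w ∈ Q) →
      ∀ v ∈ ⨆ i, ((s i).F j).map (f i), v ∈ Q := by
    intro j Q hQ v hv
    refine Submodule.iSup_induction _ (motive := fun v => v ∈ Q) hv ?_ (zero_mem _)
      (fun a b ha hb => add_mem ha hb)
    rintro i _ ⟨w, hw, rfl⟩
    exact hQ i w hw
  have hle : ∀ (j : ℕ) (i : ι), ((s i).F j).map (f i) ≤ ⨆ i, ((s i).F j).map (f i) := fun j i =>
    le_iSup (fun i => ((s i).F j).map (f i)) i
  refine ⟨⟨n, fun j => ⨆ i, ((s i).F j).map (f i), ?_, ?_, ?_, ?_, ?_, ?_⟩⟩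
  · intro j
    exact iSup_mono fun i => Submodule.map_mono ((s i).anti j)
  · rw [← htop]
    refine iSup_congr fun i => ?_
    rw [(s i).zero, Submodule.map_top]
  · rw [eq_bot_iff]
    refine iSup_le fun i => ?_
    rw [SmallFil.eq_bot (s i) (hn i), Submodule.map_bot]
  · intro j v hv
    refine key j (LinearMap.ker (mq (k := k) (O := O) (⨆ i, ((s i).F j).map (f i)) ∘ₗ
      c.coact)).toAddSubmonoid (fun i w hw => ?_) v hv
    change mq (k := k) (O := O) _ (c.coact (f i w)) = 0
    exact mq_mono (hle j i) (((s i).stable j).map (hf i) (f i w) ⟨w, hw, rfl⟩)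
  · intro j p hp v hv
    refine key j ((⨆ i, ((s i).F (j + 1)).map (f i)).comap (LinearMap.lsmul P V p)).toAddSubmonoid
      (fun i w hw => ?_) v hv
    change p • f i w ∈ ⨆ i, ((s i).F (j + 1)).map (f i)
    rw [← map_smul]
    exact hle (j + 1) i ⟨p • w, (s i).ker_smul j p hp w hw, rfl⟩
  · intro j p x hx v hv
    let g : V →ₗ[k] (V ⧸ (⨆ i, ((s i).F (j + 1)).map (f i))) ⊗[k] O :=
      mq (k := k) (O := O) (⨆ i, ((s i).F (j + 1)).map (f i)) ∘ₗ
      (c.coact ∘ₗ (Algebra.lsmul k k V p) - (act k O P V x) ∘ₗ c.coact)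
    refine key j (LinearMap.ker g).toAddSubmonoid (fun i w hw => ?_) v hv
    change mq (k := k) (O := O) _ (c.coact (p • f i w) - act k O P V x (c.coact (f i w))) = 0
    apply mq_mono (hle (j + 1) i)
    rw [← map_smul, hf i, hf i, ← act_rTensor, ← map_sub]
    exact mq_eq_zero_of_map (f i) ((s i).F (j + 1)) _ (Submodule.le_comap_map (f i) _) _
      ((s i).semi j p x hx w hw)

/-- Extensions of small objects are small. -/
theorem Small.of_ext [Module.Flat k O] {V' V'' : Type u} [AddCommGroup V'] [Module k V'] [Module P V']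
    [IsScalarTower k P V'] [AddCommGroup V''] [Module k V''] [Module P V''] [IsScalarTower k P V'']
    {c : HopfRep.Comod k O V} {c' : HopfRep.Comod k O V'} {c'' : HopfRep.Comod k O V''}
    (f : V' →ₗ[P] V) (hf : Equi c' c f) (g : V →ₗ[P] V'') (hg : Equi c c'' g)
    (hex : Function.Exact f g) (h' : Small (P := P) π ρD c') (h'' : Small (P := P) π ρD c'') :
    Small (P := P) π ρD c := by
  obtain ⟨s'⟩ := h'
  obtain ⟨s''⟩ := h''
  have hker : (⊥ : Submodule P V'').comap g = (⊤ : Submodule P V').map f := by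
    rw [Submodule.comap_bot, Submodule.map_top]
    exact LinearMap.exact_iff.1 hex
  let F : ℕ → Submodule P V := fun j =>
    if j ≤ s''.n then (s''.F j).comap g else (s'.F (j - s''.n)).map f
  have h1 : ∀ j, j ≤ s''.n → F j = (s''.F j).comap g := fun j hj => if_pos hj
  have h2 : ∀ j, s''.n ≤ j → F j = (s'.F (j - s''.n)).map f := by
    intro j hj
    rcases hj.eq_or_lt with rfl | hj
    · rw [h1 _ le_rfl, s''.last, Nat.sub_self, s'.zero, hker]
    · exact if_neg (not_le.2 hj)
  have hsub : ∀ j, s''.n ≤ j → (j + 1) - s''.n = (j - s''.n) + 1 := fun j hj => by omega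
  refine ⟨⟨s''.n + s'.n, F, ?_, ?_, ?_, ?_, ?_, ?_⟩⟩
  · intro j
    rcases Nat.lt_or_ge j s''.n with hj | hj
    · rw [h1 j hj.le, h1 (j + 1) hj]
      exact Submodule.comap_mono (s''.anti j)
    · rw [h2 j hj, h2 (j + 1) (by omega), hsub j hj]
      exact Submodule.map_mono (s'.anti _)
  · rw [h1 0 (Nat.zero_le _), s''.zero, Submodule.comap_top]
  · rw [h2 _ (Nat.le_add_right _ _), Nat.add_sub_cancel_left, s'.last, Submodule.map_bot]
  · intro j
    rcases Nat.lt_or_ge j s''.n with hj | hj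
    · rw [h1 j hj.le]
      exact (s''.stable j).comap hg
    · rw [h2 j hj]
      exact (s'.stable _).map hf
  · intro j p hp v hv
    rcases Nat.lt_or_ge j s''.n with hj | hj
    · rw [h1 (j + 1) hj]
      rw [h1 j hj.le] at hv
      rw [Submodule.mem_comap, map_smul]
      exact s''.ker_smul j p hp _ hv
    · rw [h2 (j + 1) (by omega), hsub j hj]
      rw [h2 j hj] at hv
      obtain ⟨w, hw, rfl⟩ := hv
      rw [← map_smul]
      exact ⟨p • w, s'.ker_smul _ p hp w hw, rfl⟩
  · intro j p x hx v hv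
    rcases Nat.lt_or_ge j s''.n with hj | hj
    · rw [h1 (j + 1) hj]
      rw [h1 j hj.le] at hv
      apply mq_comap g
      rw [map_sub, act_rTensor, ← hg, ← hg, map_smul]
      exact s''.semi j p x hx _ hv
    · rw [h2 (j + 1) (by omega), hsub j hj]
      rw [h2 j hj] at hv
      obtain ⟨w, hw, rfl⟩ := hv
      rw [← map_smul, hf, hf, ← act_rTensor, ← map_sub]
      exact mq_eq_zero_of_map f (s'.F (j - s''.n + 1)) _ (Submodule.le_comap_map f _) _
        (s'.semi _ p x hx w hw)

end Sum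

end Groth.Agent.ResProp.EF.K967
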