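import Groth.Agent.ResProp.EF.K967.ChartC
import Groth.Agent.ResProp.EF.K945.TensN
import Groth.Agent.CAlg.K60.FreeRes

/-!
# The chart theorem

`Kf ⟵ K' ⟶ Kc` a roof of quasi-isomorphisms of complexes of comodules over the flat bialgebra `O` over `R`,
`Kf` bounded above and `R`-flat, `Kc` a bounded complex of small objects.  Then `H^m(O, H^j(Kf ⊗ N) ⊗ F)`
vanishes for `m > r` and is finite for `N`, `F` finite.
-/

set_option autoImplicit false

universe u

open TensorProduct CategoryTheory CategoryTheory.Limits HomologicalComplex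

noncomputable section

namespace Groth.Agent.ResProp.EF.K967

open Groth.Agent.ResProp.EF.K981 Groth.Agent.ResProp.EF.K496 Groth.Agent.ResProp.EF.K945

section GO

variable (R : Type u) [CommRing R] (O : Type u) [CommRing O] [Bialgebra R O]

/-- the comodule structures on the objects of `(GO R O).Coalgebra` -/
def coFun : CoFun O (GO R O).forget where
  co M := toComod M
  equi f m := LinearMap.congr_fun (isComodHom f) m

/-- 945's bifunctor is the tensor product with the trivial comodule -/
def tensFun : TensFun (coFun R O) (sGO R O).bifunctor where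
  τ M N := LinearEquiv.refl R (M.A ⊗[R] N)
  nat₁ f N x := rfl
  nat₂ M N N' g x := rfl
  co M N x := by
    change (LinearMap.id : (M.A ⊗[R] N) →ₗ[R] (M.A ⊗[R] N)).rTensor O
      ((toComod ((sGO R O).coalg M N)).coact x) =
        (ComodTens.Comod.tensor (toComod M) (HopfRep.Comod.trivial (k := R) (A := O) N)).coact x
    rw [LinearMap.rTensor_id, LinearMap.id_apply, toComod_coalg]

end GO

section Res

variable {R : Type u} [CommRing R] [IsNoetherianRing R]

/-- A finite module over a Noetherian ring has a resolution by finite flat modules. -/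
theorem exists_finite_resolution (N : ModuleCat.{u} R) [Module.Finite R N] :
    ∃ (L : CochainComplex (ModuleCat.{u} R) ℤ) (_ : L.IsStrictlyLE 0) (_ : ∀ n, Module.Flat R (L.X n))
      (_ : ∀ n, Module.Finite R (L.X n)) (ε : L ⟶ (single (ModuleCat.{u} R) (ComplexShape.up ℤ) 0).obj N),
      QuasiIso ε := by
  obtain ⟨F, hF⟩ : ∃ F : ProjectiveResolution N, ∀ k, Module.Finite R (F.complex.X k) :=
    ⟨K60.FreeRes.res ⟨N, (inferInstance : Module.Finite R N)⟩, fun k => inferInstance⟩
  have hflat : ∀ n, Module.Flat R (F.cochainComplex.X n) := fun n => by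
    have h : Projective (F.cochainComplex.X n) := inferInstance
    have : Module.Projective R (F.cochainComplex.X n) :=
      (IsProjective.iff_projective (F.cochainComplex.X n)).2
        (show Projective (ModuleCat.of R (F.cochainComplex.X n)) from h)
    exact Module.Flat.of_projective
  have hfin : ∀ n, Module.Finite R (F.cochainComplex.X n) := fun n => by
    by_cases hn : n ≤ 0
    · obtain ⟨k, rfl⟩ := Int.exists_eq_neg_ofNat hn
      have := hF k
      exact Module.Finite.equiv (F.cochainComplexXIso (-k) k).symm.toLinearEquiv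
    · have h0 : IsZero (F.cochainComplex.X n) := CochainComplex.isZero_of_isStrictlyLE _ 0 _
      have := ModuleCat.subsingleton_of_isZero h0
      infer_instance
  have hq : QuasiIso F.π' := inferInstance
  exact ⟨F.cochainComplex, inferInstance, hflat, hfin, F.π', hq⟩

end Res

section Transport

variable {R : Type u} [CommRing R] {O : Type u} [CommRing O] [HopfAlgebra R O]

theorem hom_rTensor {V V' F : Type u} [AddCommGroup V] [Module R V] [AddCommGroup V'] [Module R V']
    [AddCommGroup F] [Module R F] {c : HopfRep.Comod R O V} {c' : HopfRep.Comod R O V'} {f : V →ₗ[R] V'}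
    (h : Hom c c' f) (d : HopfRep.Comod R O F) :
    Hom (ComodTens.Comod.tensor c d) (ComodTens.Comod.tensor c' d) (f.rTensor F) := by
  have key : ∀ (x : V ⊗[R] O) (y : F ⊗[R] O),
      bb (f.rTensor O x ⊗ₜ[R] y) = (f.rTensor F).rTensor O (bb (x ⊗ₜ[R] y)) := by
    intro x y
    induction x with
    | zero => simp
    | add a b ha hb => rw [map_add, TensorProduct.add_tmul, map_add, ha, hb, TensorProduct.add_tmul, map_add,
        map_add]
    | tmul v a =>
      induction y with
      | zero => simp
      | add a b ha hb => rw [TensorProduct.tmul_add, map_add, ha, hb, TensorProduct.tmul_add, map_add, map_add]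
      | tmul f b => simp
  apply TensorProduct.ext'
  intro v w
  have h1 : c'.coact (f v) = f.rTensor O (c.coact v) := LinearMap.congr_fun h v
  change (ComodTens.Comod.tensor c' d).coact (f v ⊗ₜ[R] w) =
    (f.rTensor F).rTensor O ((ComodTens.Comod.tensor c d).coact (v ⊗ₜ[R] w))
  rw [tensor_coact, tensor_coact, h1, key]

/-- `H^j(Kf ⊗ N)` -/
abbrev HN [Module.Flat R O] (Kf : CochainComplex (GO R O).Coalgebra ℤ) (N : ModuleCat.{u} R) (j : ℤ) :
    (GO R O).Coalgebra :=
  ((((sGO R O).bifunctor.flip.obj N).mapHomologicalComplex (ComplexShape.up ℤ)).obj Kf).homology j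

/-- `H^m(O, H ⊗ F)` -/
abbrev HT (H : (GO R O).Coalgebra) {F : Type u} [AddCommGroup F] [Module R F] (d : HopfRep.Comod R O F)
    (m : ℕ) : Type u :=
  @Hoch.H R _ O _ _ ((H.A : Type u) ⊗[R] F) _ _ (ComodTens.Comod.tensor (toComod H) d) m

/-- cohomology of isomorphic coalgebras tensored with `F` -/
theorem surjective_of_iso {H H' : (GO R O).Coalgebra} (e : H ≅ H') {F : Type u} [AddCommGroup F]
    [Module R F] (d : HopfRep.Comod R O F) (m : ℕ) :
    ∃ f : HT H d m →ₗ[R] HT H' d m, Function.Surjective f := by
  let e1 : (H.A : Type u) ≃ₗ[R] (H'.A : Type u) := ((GO R O).forget.mapIso e).toLinearEquiv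
  have h1 : Hom (toComod H) (toComod H') e1.toLinearMap := isComodHom e.hom
  exact ⟨_, surjective_mapH_of_equiv (LinearEquiv.rTensor F e1) (hom_rTensor h1 d) m⟩

end Transport

section Chart

variable {R : Type u} [CommRing R] [IsNoetherianRing R] {O : Type u} [CommRing O] [HopfAlgebra R O]
  [Module.Flat R O] {P : Type u} [CommRing P] [Algebra R P]
  {E : Type u} [CommRing E] [Algebra R E] {π : P →ₐ[R] E} {cE : K83.CoAlg R O E} {r : ℕ}

/-- **THE CHART THEOREM.** -/
theorem chart_main (hπ : Function.Surjective π) (hfin : K83.FinOut R O E cE r)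
    {Kf K' Kc : CochainComplex (GO R O).Coalgebra ℤ} (q : K' ⟶ Kf) (s : K' ⟶ Kc) [QuasiIso q] [QuasiIso s]
    (b : ℤ) [Kf.IsStrictlyLE b] (hflat : ∀ n, Module.Flat R ((GO R O).forget.obj (Kf.X n)))
    [∀ i, Module P ((GO R O).forget.obj (Kc.X i))] [∀ i, IsScalarTower R P ((GO R O).forget.obj (Kc.X i))]
    (hd : ∀ i j, PLin P ((GO R O).forget.map (Kc.d i j))) (a' b' : ℤ)
    (hab : ∀ i, (i < a' ∨ b' < i) → Subsingleton ((GO R O).forget.obj (Kc.X i)))
    (hs : ∀ i, K981.Small (P := P) π cE.ρ ((coFun R O).co (Kc.X i)))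
    (N : ModuleCat.{u} R) (j : ℤ) {F : Type u} [AddCommGroup F] [Module R F] (d : HopfRep.Comod R O F) :
    (∀ m, r < m → Subsingleton (HT (HN Kf N j) d m)) ∧
    (IsNoetherianRing P → (∀ i, Module.Finite P ((GO R O).forget.obj (Kc.X i))) → Module.Finite R N →
      Module.Finite R F → ∀ m, Module.Finite R (HT (HN Kf N j) d m)) := by
  haveI : PreservesColimitsOfSize.{0, 0} (GO R O).forget := ⟨inferInstance⟩
  constructor
  · intro m hm
    obtain ⟨e⟩ := chart_roof (sGO R O) q s b hflat N j
    have h1 := (chart_coh (P := P) hπ hfin (tensFun R O) Kc hd a' b' hab hs (res N) j d).1 m hm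
    obtain ⟨f, hf⟩ := surjective_of_iso e.symm d m
    haveI : Subsingleton (HT (((sGO R O).bifunctor.map₂CochainComplex.obj Kc).obj (res N) |>.homology j) d m) := h1
    exact hf.subsingleton
  · intro hP hfc hN hF m
    obtain ⟨L, hL0, hLflat, hLfin, ε, hε⟩ := exists_finite_resolution N
    obtain ⟨e⟩ := roof (T := (sGO R O).bifunctor) q s b 0 (fun n => by
      have h1 : Module.Flat R ((Kf.X n).A) := hflat n
      have := preservesHomology_tensorLeft ((Kf.X n).A)
      exact (sGO R O).preservesHomology_obj (Kf.X n)) N L (fun n => by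
      have := hLflat n
      have := preservesHomology_tensorRight (L.X n)
      exact (sGO R O).preservesHomology_flip_obj (L.X n)) ε j
    have h1 := (chart_coh (P := P) hπ hfin (tensFun R O) Kc hd a' b' hab hs L j d).2 hP hfc hLfin hF m
    obtain ⟨f, hf⟩ := surjective_of_iso e.symm d m
    haveI : Module.Finite R (HT (((sGO R O).bifunctor.map₂CochainComplex.obj Kc).obj L |>.homology j) d m) := h1
    exact Module.Finite.of_surjective f hf

end Chart

end Groth.Agent.ResProp.EF.K967
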