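import Groth.Agent.ResProp.EF.K967.SmallLE
import Mathlib.Algebra.Homology.Bifunctor
import Mathlib.Algebra.Category.ModuleCat.Abelian
import Mathlib.Algebra.Category.ModuleCat.Colimits
import Mathlib.Algebra.Homology.TotalComplex
import Mathlib.Algebra.Homology.ShortComplex.ModuleCat
import Mathlib.Algebra.Homology.ShortComplex.HomologicalComplex
import Mathlib.Algebra.Homology.ShortComplex.Exact
import Mathlib.CategoryTheory.Limits.Preserves.Shapes.Products
import Mathlib.CategoryTheory.Limits.Preserves.Shapes.Zero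
import Mathlib.Data.Int.Interval
import Mathlib.Algebra.Homology.ShortComplex.ExactFunctor

/-!
# Small total complexes ([CHART], piece (C))

`ME` an abelian category of comodules (`U : ME ⥤ ModuleCat R` exact, preserving coproducts, `co M` the coaction
on `U.obj M`), `D` a double complex in `ME` with a `P`-action on all `U.obj D^{i,j}`, small of bounded length.
Then all the cohomology objects of the total complex of `D` are small.
-/

set_option autoImplicit false

universe v w u

open TensorProduct CategoryTheory CategoryTheory.Limits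

noncomputable section

namespace Groth.Agent.ResProp.EF.K967

open Groth.Agent.ResProp.EF.K981

variable {R : Type u} [CommRing R] {P : Type u} [CommRing P] [Algebra R P]

/-! ### `P`-linear maps between objects of `ModuleCat R` -/

/-- `f` is `P`-linear. -/
def PLin (P : Type u) [CommRing P] [Algebra R P] {V W : ModuleCat.{u} R} [Module P V] [Module P W]
    (f : V ⟶ W) : Prop :=
  ∀ (p : P) (v : V), f.hom (p • v) = p • f.hom v

section PLin

variable {V W X : ModuleCat.{u} R} [Module P V] [Module P W] [Module P X]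

lemma PLin.comp {f : V ⟶ W} {g : W ⟶ X} (hf : PLin P f) (hg : PLin P g) : PLin P (f ≫ g) := by
  intro p v
  change g.hom (f.hom (p • v)) = p • g.hom (f.hom v)
  rw [hf, hg]

lemma PLin.add {f g : V ⟶ W} (hf : PLin P f) (hg : PLin P g) : PLin P (f + g) := by
  intro p v
  change f.hom (p • v) + g.hom (p • v) = p • (f.hom v + g.hom v)
  rw [hf, hg, smul_add]

lemma PLin.neg {f : V ⟶ W} (hf : PLin P f) : PLin P (-f) := by
  intro p v
  change -f.hom (p • v) = p • (-f.hom v)
  rw [hf, smul_neg]

lemma PLin.zero : PLin P (0 : V ⟶ W) := by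
  intro p v
  change (0 : W) = p • (0 : W)
  rw [smul_zero]

lemma PLin.units_smul {f : V ⟶ W} (hf : PLin P f) (e : ℤˣ) : PLin P (e • f) := by
  rcases Int.units_eq_one_or e with rfl | rfl
  · rwa [one_smul]
  · rw [Units.neg_smul, one_smul]
    exact hf.neg

/-- the `P`-linear map -/
def PLin.lin {f : V ⟶ W} (hf : PLin P f) : V →ₗ[P] W := { f.hom with map_smul' := hf }

end PLin

/-! ### Colimit cofans -/

section Cofan

variable {J : Type w} {V : J → ModuleCat.{u} R} [∀ j, Module P (V j)] [∀ j, IsScalarTower R P (V j)]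
  {c : Cofan V} (hc : IsColimit c)

/-- multiplication by `p` as a morphism -/
def sm (p : P) (W : ModuleCat.{u} R) [Module P W] [IsScalarTower R P W] : W ⟶ W :=
  ModuleCat.ofHom (Algebra.lsmul R R W p)

@[simp] lemma sm_apply (p : P) (W : ModuleCat.{u} R) [Module P W] [IsScalarTower R P W] (x : W) :
    (sm p W).hom x = p • x := rfl

/-- the action of `p` on the colimit -/
def actC (p : P) : c.pt ⟶ c.pt := Cofan.IsColimit.desc hc (fun j => sm p (V j) ≫ c.inj j)

lemma inj_actC (p : P) (j : J) : c.inj j ≫ actC hc p = sm p (V j) ≫ c.inj j :=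
  Cofan.IsColimit.fac hc _ j

/-- the ring homomorphism giving the action -/
def actRing : P →+* Module.End R c.pt where
  toFun p := (actC hc p).hom
  map_one' := by
    have : actC hc (1 : P) = 𝟙 _ := by
      refine Cofan.IsColimit.hom_ext hc _ _ fun j => ?_
      rw [inj_actC, Category.comp_id]
      ext x
      change c.inj j ((1 : P) • x) = c.inj j x
      rw [one_smul]
    rw [this]; rfl
  map_mul' p q := by
    have : actC hc (p * q) = actC hc q ≫ actC hc p := by
      refine Cofan.IsColimit.hom_ext hc _ _ fun j => ?_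
      rw [inj_actC, ← Category.assoc, inj_actC, Category.assoc, inj_actC]
      ext x
      change c.inj j ((p * q) • x) = c.inj j (p • (q • x))
      rw [mul_smul]
    rw [this]; rfl
  map_zero' := by
    have : actC hc (0 : P) = 0 := by
      refine Cofan.IsColimit.hom_ext hc _ _ fun j => ?_
      rw [inj_actC, comp_zero]
      ext x
      change c.inj j ((0 : P) • x) = 0
      rw [zero_smul, map_zero]
    rw [this]; rfl
  map_add' p q := by
    have : actC hc (p + q) = actC hc p + actC hc q := by
      refine Cofan.IsColimit.hom_ext hc _ _ fun j => ?_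
      rw [inj_actC, Preadditive.comp_add, inj_actC, inj_actC]
      ext x
      change c.inj j ((p + q) • x) = c.inj j (p • x) + c.inj j (q • x)
      rw [add_smul, map_add]
    rw [this]; rfl

/-- the `P`-module structure on the colimit -/
@[reducible] def modC : Module P c.pt := Module.compHom c.pt (actRing hc)

lemma modC_smul (p : P) (x : c.pt) : letI := modC (P := P) hc; p • x = (actC hc p).hom x := rfl

lemma towerC : letI := modC (P := P) hc; IsScalarTower R P c.pt := by
  letI := modC (P := P) hc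
  refine ⟨fun r p x => ?_⟩
  have : actC hc (r • p) = r • actC hc p := by
    refine Cofan.IsColimit.hom_ext hc _ _ fun j => ?_
    rw [inj_actC, Linear.comp_smul, inj_actC]
    ext x
    change c.inj j ((r • p) • x) = r • c.inj j (p • x)
    rw [smul_assoc, map_smul]
  change (actC hc (r • p)).hom x = r • (actC hc p).hom x
  rw [this]; rfl

lemma plin_inj (j : J) : letI := modC (P := P) hc; PLin P (c.inj j) := by
  letI := modC (P := P) hc
  intro p v
  have := congrArg (fun f => f.hom v) (inj_actC (P := P) hc p j)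
  exact this.symm

lemma plin_of_inj {W : ModuleCat.{u} R} [Module P W] [IsScalarTower R P W] (f : c.pt ⟶ W)
    (h : ∀ j, PLin P (c.inj j ≫ f)) : letI := modC (P := P) hc; PLin P f := by
  letI := modC (P := P) hc
  intro p v
  have : actC hc p ≫ f = f ≫ sm p W := by
    refine Cofan.IsColimit.hom_ext hc _ _ fun j => ?_
    rw [← Category.assoc, inj_actC, Category.assoc]
    ext x
    exact h j p x
  exact congrArg (fun g => g.hom v) this

lemma iSup_range_inj : letI := modC (P := P) hc;
    ⨆ j, LinearMap.range (plin_inj (P := P) hc j).lin = (⊤ : Submodule P c.pt) := by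
  letI := modC (P := P) hc
  haveI := towerC (P := P) hc
  set S := ⨆ j, LinearMap.range (plin_inj (P := P) hc j).lin with hS
  have h0 : ModuleCat.ofHom ((S.mkQ).restrictScalars R) = (0 : c.pt ⟶ ModuleCat.of R (c.pt ⧸ S)) := by
    refine Cofan.IsColimit.hom_ext hc _ _ fun j => ?_
    rw [comp_zero]
    ext x
    change S.mkQ (c.inj j x) = 0
    rw [Submodule.mkQ_apply, Submodule.Quotient.mk_eq_zero, hS]
    exact le_iSup (fun j => LinearMap.range (plin_inj (P := P) hc j).lin) j ⟨x, rfl⟩
  rw [eq_top_iff]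
  intro x _
  have := congrArg (fun f => f.hom x) h0
  exact (Submodule.Quotient.mk_eq_zero S).1 this

end Cofan

/-! ### Homology objects in a category of comodules -/

/-- `U : ME ⥤ ModuleCat R` lifts to comodules over `A`. -/
structure CoFun (A : Type u) [CommRing A] [Bialgebra R A] {ME : Type w} [Category.{v} ME]
    (U : ME ⥤ ModuleCat.{u} R) where
  co : ∀ M : ME, HopfRep.Comod R A (U.obj M)
  equi : ∀ {M N : ME} (f : M ⟶ N) (m : U.obj M),
    (co N).coact ((U.map f).hom m) = (U.map f).hom.rTensor A ((co M).coact m)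

section Homology

variable {A : Type u} [CommRing A] [Bialgebra R A] [Module.Flat R A]
  {D : Type u} [CommRing D] [Algebra R D] {π : P →ₐ[R] D} {ρD : D →ₐ[R] D ⊗[R] A}
  {ME : Type w} [Category.{v} ME] [Abelian ME] {U : ME ⥤ ModuleCat.{u} R} [U.Additive]
  [PreservesFiniteLimits U] [PreservesFiniteColimits U]

/-- **The cohomology of a complex of small objects is small.** -/
theorem small_homology (G : CoFun A U) (X : CochainComplex ME ℤ)
    [∀ n, Module P (U.obj (X.X n))] [∀ n, IsScalarTower R P (U.obj (X.X n))]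
    (hd : ∀ m n, PLin P (U.map (X.d m n))) (n : ℤ)
    (hs : K981.Small (P := P) π ρD (G.co (X.X n))) :
    ∃ (_ : Module P (U.obj (X.homology n))) (_ : IsScalarTower R P (U.obj (X.homology n))),
      K981.Small (P := P) π ρD (G.co (X.homology n)) ∧
      (IsNoetherianRing P → Module.Finite P (U.obj (X.X n)) → Module.Finite P (U.obj (X.homology n))) := by
  have hj : Function.Injective (U.map (X.iCycles n)).hom :=
    (ModuleCat.mono_iff_injective _).1 inferInstance
  have hq : Function.Surjective (U.map (X.homologyπ n)).hom :=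
    (ModuleCat.epi_iff_surjective _).1 inferInstance
  -- exactness at `X n`
  have e1 : (ShortComplex.mk (X.iCycles n) (X.d n (n + 1)) (X.iCycles_d n (n + 1))).Exact :=
    ShortComplex.exact_of_f_is_kernel _ (X.cyclesIsKernel n (n + 1) (by simp))
  have e1' := (e1.map U).moduleCat_range_eq_ker
  -- exactness at the cycles
  have e2 : (ShortComplex.mk (X.toCycles (n - 1) n) (X.homologyπ n)
      (X.toCycles_comp_homologyπ (n - 1) n)).Exact :=
    ShortComplex.exact_of_g_is_cokernel _ (X.homologyIsCokernel (n - 1) n (by simp))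
  have e2' := (e2.map U).moduleCat_range_eq_ker
  refine exists_small_of_subquotient (c₂ := G.co (X.X n)) (G.co (X.cycles n)) (G.co (X.homology n))
    (LinearMap.ker (hd n (n + 1)).lin) (LinearMap.range (hd (n - 1) n).lin)
    (U.map (X.iCycles n)).hom (fun z => G.equi _ z) hj ?_
    (U.map (X.homologyπ n)).hom (fun z => G.equi _ z) hq ?_ hs
  · intro v
    have : v ∈ LinearMap.range (U.map (X.iCycles n)).hom ↔ v ∈ LinearMap.ker (U.map (X.d n (n + 1))).hom :=
      (SetLike.ext_iff.1 e1') v
    exact this.symm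
  · intro z
    have : z ∈ LinearMap.range (U.map (X.toCycles (n - 1) n)).hom ↔
        z ∈ LinearMap.ker (U.map (X.homologyπ n)).hom := (SetLike.ext_iff.1 e2') z
    have h3 : ∀ y, (U.map (X.iCycles n)).hom ((U.map (X.toCycles (n - 1) n)).hom y) =
        (U.map (X.d (n - 1) n)).hom y := by
      intro y
      rw [← X.toCycles_i (n - 1) n, U.map_comp]
      rfl
    constructor
    · intro h
      obtain ⟨y, rfl⟩ := this.2 h
      exact ⟨y, (h3 y).symm⟩
    · rintro ⟨y, hy⟩
      apply this.1
      refine ⟨y, hj ?_⟩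
      rw [h3]
      exact hy

end Homology

/-! ### Total complexes -/

section Total

open HomologicalComplex₂ ComplexShape

variable {ME : Type w} [Category.{v} ME] [Preadditive ME] {U : ME ⥤ ModuleCat.{u} R} [U.Additive]
  (D : HomologicalComplex₂ ME (up ℤ) (up ℤ)) [D.HasTotal (up ℤ)]

/-- the index set of the summands of degree `n` -/
abbrev Ix (n : ℤ) : Type := (π (up ℤ) (up ℤ) (up ℤ)) ⁻¹' {n}

variable (U) in
/-- the cofan of the summands of degree `n`, after `U` -/
abbrev cof (n : ℤ) : Cofan (fun x : Ix n => U.obj ((D.X x.1.1).X x.1.2)) :=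
  Cofan.mk (U.obj ((D.total (up ℤ)).X n)) (fun x => U.map (D.ιTotal (up ℤ) x.1.1 x.1.2 n x.2))

variable (U) in
/-- it is a colimit -/
def hcof [PreservesColimitsOfSize.{0, 0} U] (n : ℤ) : IsColimit (cof U D n) :=
  isColimitCofanMkObjOfIsColimit U _ _
    (D.toGradedObject.isColimitCofanMapObj (π (up ℤ) (up ℤ) (up ℤ)) n)

variable [PreservesColimitsOfSize.{0, 0} U]
  [∀ i j, Module P (U.obj ((D.X i).X j))] [∀ i j, IsScalarTower R P (U.obj ((D.X i).X j))]

/-- the `P`-structure on the total complex -/
@[reducible] def totMod (n : ℤ) : Module P (U.obj ((D.total (up ℤ)).X n)) := modC (hcof U D n)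

lemma totTower (n : ℤ) : letI := totMod (P := P) (U := U) D n
    IsScalarTower R P (U.obj ((D.total (up ℤ)).X n)) := towerC (hcof U D n)

lemma plin_ι (i j n : ℤ) (h : π (up ℤ) (up ℤ) (up ℤ) (i, j) = n) :
    letI := totMod (P := P) (U := U) D n
    PLin P (U.map (D.ιTotal (up ℤ) i j n h)) :=
  plin_inj (hcof U D n) ⟨(i, j), h⟩

lemma plin_ιOrZero (i j n : ℤ) :
    letI := totMod (P := P) (U := U) D n
    PLin P (U.map (D.ιTotalOrZero (up ℤ) i j n)) := by
  letI := totMod (P := P) (U := U) D n
  by_cases h : π (up ℤ) (up ℤ) (up ℤ) (i, j) = n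
  · rw [D.ιTotalOrZero_eq (up ℤ) i j n h]
    exact plin_ι D i j n h
  · rw [D.ιTotalOrZero_eq_zero (up ℤ) i j n h, U.map_zero]
    exact PLin.zero

variable (h1 : ∀ i i' j, PLin P (U.map ((D.d i i').f j)))
  (h2 : ∀ i j j', PLin P (U.map ((D.X i).d j j')))

include h1 h2 in
lemma plin_total_d (m n : ℤ) :
    letI := totMod (P := P) (U := U) D m
    letI := totMod (P := P) (U := U) D n
    PLin P (U.map ((D.total (up ℤ)).d m n)) := by
  letI := totMod (P := P) (U := U) D m
  letI := totMod (P := P) (U := U) D n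
  haveI := totTower (P := P) (U := U) D n
  refine plin_of_inj (hcof U D m) (W := U.obj ((D.total (up ℤ)).X n)) _ fun x => ?_
  obtain ⟨⟨i, j⟩, hx⟩ := x
  change PLin P (U.map (D.ιTotal (up ℤ) i j m hx) ≫ U.map ((D.total (up ℤ)).d m n))
  have hd : (D.total (up ℤ)).d m n = D.D₁ (up ℤ) m n + D.D₂ (up ℤ) m n := rfl
  rw [← U.map_comp, hd, Preadditive.comp_add, D.ι_D₁, D.ι_D₂, U.map_add]
  refine PLin.add ?_ ?_
  · rw [D.d₁_eq' (up ℤ) (show (up ℤ).Rel i (i + 1) by simp) j n]
    have : U.map (ε₁ (up ℤ) (up ℤ) (up ℤ) (i, j) • ((D.d i (i + 1)).f j ≫ D.ιTotalOrZero (up ℤ) (i + 1) j n))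
        = ε₁ (up ℤ) (up ℤ) (up ℤ) (i, j) • (U.map ((D.d i (i + 1)).f j) ≫
          U.map (D.ιTotalOrZero (up ℤ) (i + 1) j n)) := by
      rw [← U.map_comp, Functor.map_units_smul]
    rw [this]
    exact ((h1 _ _ _).comp (plin_ιOrZero D _ _ _)).units_smul _
  · rw [D.d₂_eq' (up ℤ) i (show (up ℤ).Rel j (j + 1) by simp) n]
    have : U.map (ε₂ (up ℤ) (up ℤ) (up ℤ) (i, j) • ((D.X i).d j (j + 1) ≫ D.ιTotalOrZero (up ℤ) i (j + 1) n))
        = ε₂ (up ℤ) (up ℤ) (up ℤ) (i, j) • (U.map ((D.X i).d j (j + 1)) ≫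
          U.map (D.ιTotalOrZero (up ℤ) i (j + 1) n)) := by
      rw [← U.map_comp, Functor.map_units_smul]
    rw [this]
    exact ((h2 _ _ _).comp (plin_ιOrZero D _ _ _)).units_smul _

section

variable {A : Type u} [CommRing A] [Bialgebra R A]
  {E : Type u} [CommRing E] [Algebra R E] {π' : P →ₐ[R] E} {ρE : E →ₐ[R] E ⊗[R] A}

/-- The terms of the total complex are small. -/
theorem small_total (G : CoFun A U) (n : ℤ) (N : ℕ)
    (hs : ∀ i j, SmallLE (P := P) π' ρE N (G.co ((D.X i).X j))) :
    letI := totMod (P := P) (U := U) D n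
    haveI := totTower (P := P) (U := U) D n
    K981.Small (P := P) π' ρE (G.co ((D.total (up ℤ)).X n)) := by
  letI := totMod (P := P) (U := U) D n
  haveI := totTower (P := P) (U := U) D n
  letI : Module P (cof U D n).pt := totMod (P := P) (U := U) D n
  choose s hN using hs
  exact Small.of_iSup (fun x : Ix n => U.obj ((D.X x.1.1).X x.1.2)) (fun x => G.co ((D.X x.1.1).X x.1.2))
    (fun x => (plin_inj (P := P) (hcof U D n) x).lin)
    (fun x v => G.equi (D.ιTotal (up ℤ) x.1.1 x.1.2 n x.2) v)
    (fun x => s x.1.1 x.1.2) N (fun x => hN x.1.1 x.1.2) (iSup_range_inj (P := P) (hcof U D n))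

/-- The terms of the total complex are finite. -/
theorem finite_total (n a b : ℤ) (hab : ∀ i j, (i < a ∨ b < i) → Subsingleton (U.obj ((D.X i).X j)))
    (hf : ∀ i j, Module.Finite P (U.obj ((D.X i).X j))) :
    letI := totMod (P := P) (U := U) D n
    Module.Finite P (U.obj ((D.total (up ℤ)).X n)) := by
  letI := totMod (P := P) (U := U) D n
  haveI := totTower (P := P) (U := U) D n
  letI : Module P (cof U D n).pt := totMod (P := P) (U := U) D n
  have hidx : ∀ i : ℤ, (π (up ℤ) (up ℤ) (up ℤ)) (i, n - i) = n := fun i => by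
    change i + (n - i) = n
    ring
  let r : ℤ → Submodule P (U.obj ((D.total (up ℤ)).X n)) := fun i =>
    LinearMap.range (plin_inj (P := P) (hcof U D n) ⟨(i, n - i), hidx i⟩).lin
  have htop : (⨆ i ∈ Finset.Icc a b, r i) = ⊤ := by
    rw [eq_top_iff, ← iSup_range_inj (P := P) (hcof U D n)]
    refine iSup_le fun x => ?_
    obtain ⟨⟨i, j⟩, hx⟩ := x
    have hj : j = n - i := by
      have : i + j = n := hx
      omega
    subst hj
    by_cases hi : i ∈ Finset.Icc a b
    · exact le_iSup₂_of_le i hi le_rfl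
    · rw [Finset.mem_Icc, not_and_or, not_le, not_le] at hi
      have := hab i (n - i) hi
      rintro _ ⟨v, rfl⟩
      have hv : v = 0 := Subsingleton.elim _ _
      rw [hv, map_zero]
      exact Submodule.zero_mem _
  refine ⟨?_⟩
  rw [← htop]
  refine Submodule.fg_biSup _ _ fun i _ => ?_
  have := hf i (n - i)
  exact Submodule.FG.of_finite

end

end Total

section Final

open HomologicalComplex₂ ComplexShape

variable {A : Type u} [CommRing A] [Bialgebra R A] [Module.Flat R A]
  {E : Type u} [CommRing E] [Algebra R E] {π' : P →ₐ[R] E} {ρE : E →ₐ[R] E ⊗[R] A}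
  {ME : Type w} [Category.{v} ME] [Abelian ME] {U : ME ⥤ ModuleCat.{u} R} [U.Additive]
  [PreservesFiniteLimits U] [PreservesFiniteColimits U] [PreservesColimitsOfSize.{0, 0} U]

/-- **The cohomology of the total complex of a double complex with small terms is small.** -/
theorem small_homology_total (G : CoFun A U) (D : HomologicalComplex₂ ME (up ℤ) (up ℤ))
    [D.HasTotal (up ℤ)] [∀ i j, Module P (U.obj ((D.X i).X j))]
    [∀ i j, IsScalarTower R P (U.obj ((D.X i).X j))]
    (h1 : ∀ i i' j, PLin P (U.map ((D.d i i').f j)))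
    (h2 : ∀ i j j', PLin P (U.map ((D.X i).d j j'))) (N : ℕ)
    (hs : ∀ i j, SmallLE (P := P) π' ρE N (G.co ((D.X i).X j))) (n : ℤ) :
    ∃ (_ : Module P (U.obj ((D.total (up ℤ)).homology n)))
      (_ : IsScalarTower R P (U.obj ((D.total (up ℤ)).homology n))),
      K981.Small (P := P) π' ρE (G.co ((D.total (up ℤ)).homology n)) ∧
      (IsNoetherianRing P → (∃ a b : ℤ, ∀ i j, (i < a ∨ b < i) → Subsingleton (U.obj ((D.X i).X j))) →
        (∀ i j, Module.Finite P (U.obj ((D.X i).X j))) →
        Module.Finite P (U.obj ((D.total (up ℤ)).homology n))) := by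
  letI : ∀ n, Module P (U.obj ((D.total (up ℤ)).X n)) := fun n => totMod (P := P) (U := U) D n
  haveI : ∀ n, IsScalarTower R P (U.obj ((D.total (up ℤ)).X n)) := fun n => totTower (P := P) (U := U) D n
  obtain ⟨m, t, hs', hf⟩ := small_homology (P := P) (π := π') (ρD := ρE) G (D.total (up ℤ))
    (fun m n => plin_total_d D h1 h2 m n) n (small_total D G n N hs)
  exact ⟨m, t, hs', fun hP ⟨a, b, hab⟩ hfin => hf hP (finite_total D n a b hab hfin)⟩

end Final

/-! ### Tensor products with modules without coaction -/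

section Tens

open HomologicalComplex₂ ComplexShape

variable {A : Type u} [CommRing A] [Bialgebra R A]
  {ME : Type w} [Category.{v} ME] {U : ME ⥤ ModuleCat.{u} R}

/-- `T M N = M ⊗ N`, `N` an `R`-module (with the trivial coaction). -/
structure TensFun (G : CoFun A U) (T : ME ⥤ ModuleCat.{u} R ⥤ ME) where
  τ : ∀ (M : ME) (N : ModuleCat.{u} R), U.obj ((T.obj M).obj N) ≃ₗ[R] (U.obj M ⊗[R] N)
  nat₁ : ∀ {M M' : ME} (f : M ⟶ M') (N : ModuleCat.{u} R) (x : U.obj ((T.obj M).obj N)),
    τ M' N ((U.map ((T.map f).app N)).hom x) = (U.map f).hom.rTensor N (τ M N x)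
  nat₂ : ∀ (M : ME) {N N' : ModuleCat.{u} R} (g : N ⟶ N') (x : U.obj ((T.obj M).obj N)),
    τ M N' ((U.map ((T.obj M).map g)).hom x) = g.hom.lTensor (U.obj M) (τ M N x)
  co : ∀ (M : ME) (N : ModuleCat.{u} R) (x : U.obj ((T.obj M).obj N)),
    (τ M N).toLinearMap.rTensor A ((G.co ((T.obj M).obj N)).coact x) =
      (ComodTens.Comod.tensor (G.co M) (HopfRep.Comod.trivial R A N)).coact (τ M N x)

variable {G : CoFun A U} {T : ME ⥤ ModuleCat.{u} R ⥤ ME} (S : TensFun G T)

/-- the `P`-structure on `M ⊗ N` -/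
@[reducible] def tensMod (M : ME) [Module P (U.obj M)] [IsScalarTower R P (U.obj M)] (N : ModuleCat.{u} R) :
    Module P (U.obj ((T.obj M).obj N)) := (S.τ M N).toAddEquiv.module P

lemma τ_smul (M : ME) [Module P (U.obj M)] [IsScalarTower R P (U.obj M)] (N : ModuleCat.{u} R) (p : P)
    (x : U.obj ((T.obj M).obj N)) : letI := tensMod (P := P) S M N
    S.τ M N (p • x) = p • S.τ M N x := (S.τ M N).apply_symm_apply _

lemma tensTower (M : ME) [Module P (U.obj M)] [IsScalarTower R P (U.obj M)] (N : ModuleCat.{u} R) :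
    letI := tensMod (P := P) S M N
    IsScalarTower R P (U.obj ((T.obj M).obj N)) := by
  letI := tensMod (P := P) S M N
  refine ⟨fun r p x => (S.τ M N).injective ?_⟩
  rw [τ_smul, map_smul, τ_smul, smul_assoc]

lemma plin_tens₁ {M M' : ME} [Module P (U.obj M)] [IsScalarTower R P (U.obj M)]
    [Module P (U.obj M')] [IsScalarTower R P (U.obj M')] (f : M ⟶ M') (hf : PLin P (U.map f))
    (N : ModuleCat.{u} R) :
    letI := tensMod (P := P) S M N
    letI := tensMod (P := P) S M' N
    PLin P (U.map ((T.map f).app N)) := by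
  letI := tensMod (P := P) S M N
  letI := tensMod (P := P) S M' N
  intro p x
  apply (S.τ M' N).injective
  rw [S.nat₁, τ_smul, τ_smul, S.nat₁]
  have : ∀ y : U.obj M ⊗[R] N, (U.map f).hom.rTensor N (p • y) = p • (U.map f).hom.rTensor N y := by
    intro y
    induction y with
    | zero => simp
    | add a b ha hb => rw [smul_add, map_add, ha, hb, map_add, smul_add]
    | tmul v m => rw [TensorProduct.smul_tmul', LinearMap.rTensor_tmul, LinearMap.rTensor_tmul, hf,
        TensorProduct.smul_tmul']
  exact this _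

lemma plin_tens₂ (M : ME) [Module P (U.obj M)] [IsScalarTower R P (U.obj M)]
    {N N' : ModuleCat.{u} R} (g : N ⟶ N') :
    letI := tensMod (P := P) S M N
    letI := tensMod (P := P) S M N'
    PLin P (U.map ((T.obj M).map g)) := by
  letI := tensMod (P := P) S M N
  letI := tensMod (P := P) S M N'
  intro p x
  apply (S.τ M N').injective
  rw [S.nat₂, τ_smul, τ_smul, S.nat₂]
  have : ∀ y : U.obj M ⊗[R] N, g.hom.lTensor (U.obj M) (p • y) = p • g.hom.lTensor (U.obj M) y := by
    intro y
    induction y with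
    | zero => simp
    | add a b ha hb => rw [smul_add, map_add, ha, hb, map_add, smul_add]
    | tmul v m => rw [TensorProduct.smul_tmul', LinearMap.lTensor_tmul, LinearMap.lTensor_tmul,
        TensorProduct.smul_tmul']
  exact this _

variable [Module.Flat R A] {E : Type u} [CommRing E] [Algebra R E] {π' : P →ₐ[R] E}
  {ρE : E →ₐ[R] E ⊗[R] A}

lemma smallLE_tens {n : ℕ} (M : ME) [Module P (U.obj M)] [IsScalarTower R P (U.obj M)]
    (h : SmallLE (P := P) π' ρE n (G.co M)) (N : ModuleCat.{u} R) :
    letI := tensMod (P := P) S M N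
    haveI := tensTower (P := P) S M N
    SmallLE (P := P) π' ρE n (G.co ((T.obj M).obj N)) := by
  letI := tensMod (P := P) S M N
  haveI := tensTower (P := P) S M N
  let f : U.obj ((T.obj M).obj N) →ₗ[P] (U.obj M ⊗[R] N) :=
    { (S.τ M N).toLinearMap with map_smul' := τ_smul S M N }
  exact SmallLE.of_injective f (fun v => (S.co M N v).symm) (S.τ M N).injective
    (SmallLE.tensor (HopfRep.Comod.trivial R A N) h)

lemma finite_tens (M : ME) [Module P (U.obj M)] [IsScalarTower R P (U.obj M)] [Module.Finite P (U.obj M)]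
    (N : ModuleCat.{u} R) [Module.Finite R N] :
    letI := tensMod (P := P) S M N
    Module.Finite P (U.obj ((T.obj M).obj N)) := by
  letI := tensMod (P := P) S M N
  have h1 : Module.Finite P (U.obj M ⊗[R] N) :=
    Module.Finite.equiv (TensorProduct.AlgebraTensorModule.cancelBaseChange R P P (U.obj M) N)
  let e : (U.obj M ⊗[R] N) ≃ₗ[P] U.obj ((T.obj M).obj N) :=
    LinearEquiv.symm { (S.τ M N).toAddEquiv with map_smul' := τ_smul S M N }
  exact Module.Finite.equiv e

end Tens

section Main

open HomologicalComplex ComplexShape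

variable {A : Type u} [CommRing A] [Bialgebra R A] [Module.Flat R A]
  {E : Type u} [CommRing E] [Algebra R E] {π' : P →ₐ[R] E} {ρE : E →ₐ[R] E ⊗[R] A}
  {ME : Type w} [Category.{v} ME] [Abelian ME] {U : ME ⥤ ModuleCat.{u} R} [U.Additive]

/-- A bound for all the terms of a bounded complex. -/
lemma exists_bound {G : CoFun A U} (K : CochainComplex ME ℤ) [∀ i, Module P (U.obj (K.X i))]
    [∀ i, IsScalarTower R P (U.obj (K.X i))] (a b : ℤ)
    (hab : ∀ i, (i < a ∨ b < i) → Subsingleton (U.obj (K.X i)))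
    (h : ∀ i, K981.Small (P := P) π' ρE (G.co (K.X i))) :
    ∃ N, ∀ i, SmallLE (P := P) π' ρE N (G.co (K.X i)) := by
  choose n hn using fun i => exists_smallLE (h i)
  refine ⟨(Finset.Icc a b).sup n, fun i => ?_⟩
  by_cases hi : i ∈ Finset.Icc a b
  · exact (hn i).mono (Finset.le_sup hi)
  · rw [Finset.mem_Icc, not_and_or, not_le, not_le] at hi
    have := hab i hi
    exact smallLE_of_subsingleton _ _

variable [PreservesFiniteLimits U] [PreservesFiniteColimits U] [PreservesColimitsOfSize.{0, 0} U]
  {G : CoFun A U} {T : ME ⥤ ModuleCat.{u} R ⥤ ME} [T.PreservesZeroMorphisms]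
  [∀ M, (T.obj M).PreservesZeroMorphisms]

/-- **[CHART] (C).** The cohomology of `K ⊗ L` is small, for `K` a bounded complex of small comodules with
`P`-linear differentials and `L` any complex of `R`-modules (without coaction). -/
theorem chart_small (S : TensFun G T) (K : CochainComplex ME ℤ) [∀ i, Module P (U.obj (K.X i))]
    [∀ i, IsScalarTower R P (U.obj (K.X i))] (hd : ∀ i j, PLin P (U.map (K.d i j))) (a b : ℤ)
    (hab : ∀ i, (i < a ∨ b < i) → Subsingleton (U.obj (K.X i)))
    (hs : ∀ i, K981.Small (P := P) π' ρE (G.co (K.X i)))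
    (L : CochainComplex (ModuleCat.{u} R) ℤ) [HasMapBifunctor K L T (up ℤ)] (n : ℤ) :
    ∃ (_ : Module P (U.obj ((mapBifunctor K L T (up ℤ)).homology n)))
      (_ : IsScalarTower R P (U.obj ((mapBifunctor K L T (up ℤ)).homology n))),
      K981.Small (P := P) π' ρE (G.co ((mapBifunctor K L T (up ℤ)).homology n)) ∧
      (IsNoetherianRing P → (∀ i, Module.Finite P (U.obj (K.X i))) → (∀ j, Module.Finite R (L.X j)) →
        Module.Finite P (U.obj ((mapBifunctor K L T (up ℤ)).homology n))) := by
  obtain ⟨N, hN⟩ := exists_bound (P := P) (π' := π') (ρE := ρE) (G := G) K a b hab hs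
  let D : HomologicalComplex₂ ME (up ℤ) (up ℤ) := ((T.mapBifunctorHomologicalComplex (up ℤ) (up ℤ)).obj K).obj L
  haveI : D.HasTotal (up ℤ) := inferInstanceAs (HasMapBifunctor K L T (up ℤ))
  letI : ∀ i j, Module P (U.obj ((D.X i).X j)) := fun i j => tensMod (P := P) S (K.X i) (L.X j)
  haveI : ∀ i j, IsScalarTower R P (U.obj ((D.X i).X j)) := fun i j => tensTower (P := P) S (K.X i) (L.X j)
  obtain ⟨m, t, h1, h2⟩ := small_homology_total (P := P) (π' := π') (ρE := ρE) G D
    (fun i i' j => plin_tens₁ (P := P) S (K.d i i') (hd i i') (L.X j))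
    (fun i j j' => plin_tens₂ (P := P) S (K.X i) (L.d j j')) N
    (fun i j => smallLE_tens (P := P) S (K.X i) (hN i) (L.X j)) n
  refine ⟨m, t, h1, fun hP hK hL => h2 hP ⟨a, b, fun i j hi => ?_⟩ fun i j => ?_⟩
  · have := hab i hi
    have h0 : Subsingleton ((U.obj (K.X i)) ⊗[R] (L.X j)) := by
      refine subsingleton_of_forall_eq 0 fun x => ?_
      induction x with
      | zero => rfl
      | add a b ha hb => rw [ha, hb, add_zero]
      | tmul a b => rw [Subsingleton.elim a 0, TensorProduct.zero_tmul]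
    exact (S.τ (K.X i) (L.X j)).injective.subsingleton
  · have := hK i
    have := hL j
    exact finite_tens (P := P) S (K.X i) (L.X j)

end Main

section Coh

open HomologicalComplex ComplexShape

variable {A : Type u} [CommRing A] [HopfAlgebra R A] [Module.Flat R A] [IsNoetherianRing R]
  {E : Type u} [CommRing E] [Algebra R E] {π' : P →ₐ[R] E} {cE : K83.CoAlg R A E} {r : ℕ}
  {ME : Type w} [Category.{v} ME] [Abelian ME] {U : ME ⥤ ModuleCat.{u} R} [U.Additive]
  [PreservesFiniteLimits U] [PreservesFiniteColimits U] [PreservesColimitsOfSize.{0, 0} U]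
  {G : CoFun A U} {T : ME ⥤ ModuleCat.{u} R ⥤ ME} [T.PreservesZeroMorphisms]
  [∀ M, (T.obj M).PreservesZeroMorphisms]

/-- **Cohomology of `H^n(K ⊗ L) ⊗ F`.** -/
theorem chart_coh (hπ : Function.Surjective π') (hfin : K83.FinOut R A E cE r)
    (S : TensFun G T) (K : CochainComplex ME ℤ) [∀ i, Module P (U.obj (K.X i))]
    [∀ i, IsScalarTower R P (U.obj (K.X i))] (hd : ∀ i j, PLin P (U.map (K.d i j))) (a b : ℤ)
    (hab : ∀ i, (i < a ∨ b < i) → Subsingleton (U.obj (K.X i)))
    (hs : ∀ i, K981.Small (P := P) π' cE.ρ (G.co (K.X i)))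
    (L : CochainComplex (ModuleCat.{u} R) ℤ) [HasMapBifunctor K L T (up ℤ)] (n : ℤ)
    {F : Type u} [AddCommGroup F] [Module R F] (d : HopfRep.Comod R A F) :
    (∀ m, r < m → Subsingleton (@Hoch.H R _ A _ _
      ((U.obj ((mapBifunctor K L T (up ℤ)).homology n) : Type u) ⊗[R] F) _ _
      (ComodTens.Comod.tensor (G.co ((mapBifunctor K L T (up ℤ)).homology n)) d) m)) ∧
    (IsNoetherianRing P → (∀ i, Module.Finite P (U.obj (K.X i))) → (∀ j, Module.Finite R (L.X j)) →
      Module.Finite R F → ∀ m, Module.Finite R (@Hoch.H R _ A _ _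
      ((U.obj ((mapBifunctor K L T (up ℤ)).homology n) : Type u) ⊗[R] F) _ _
      (ComodTens.Comod.tensor (G.co ((mapBifunctor K L T (up ℤ)).homology n)) d) m)) := by
  obtain ⟨m, t, h1, h2⟩ := chart_small (P := P) (π' := π') (ρE := cE.ρ) S K hd a b hab hs L n
  obtain ⟨h3, h4⟩ := cohSmall hπ hfin (G.co ((mapBifunctor K L T (up ℤ)).homology n)) d h1
  exact ⟨h3, fun hP hK hL hF => h4 hP (h2 hP hK hL) hF⟩

end Coh

end Groth.Agent.ResProp.EF.K967
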