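import Groth.Agent.ResProp.EF.K967.SmallHom

/-!
# Small objects with a bound on the length
-/

set_option autoImplicit false

universe u

open TensorProduct

noncomputable section

namespace Groth.Agent.ResProp.EF.K967

open Groth.Agent.ResProp.EF.K981

section

variable {k : Type u} [CommRing k] {O : Type u} [CommRing O] [Bialgebra k O]
  {P : Type u} [CommRing P] [Algebra k P] {D : Type u} [CommRing D] [Algebra k D]
  (π : P →ₐ[k] D) (ρD : D →ₐ[k] D ⊗[k] O)
  {V : Type u} [AddCommGroup V] [Module k V] [Module P V] [IsScalarTower k P V]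
  {V' : Type u} [AddCommGroup V'] [Module k V'] [Module P V'] [IsScalarTower k P V']
  {F : Type u} [AddCommGroup F] [Module k F]

/-- small, with a filtration of length `≤ n` -/
def SmallLE (n : ℕ) (c : HopfRep.Comod k O V) : Prop := ∃ s : SmallFil (P := P) π ρD c, s.n ≤ n

variable {π ρD}

lemma SmallLE.small {n : ℕ} {c : HopfRep.Comod k O V} (h : SmallLE (P := P) π ρD n c) :
    K981.Small (P := P) π ρD c := let ⟨s, _⟩ := h; ⟨s⟩

lemma SmallLE.mono {n m : ℕ} (hnm : n ≤ m) {c : HopfRep.Comod k O V} (h : SmallLE (P := P) π ρD n c) :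
    SmallLE (P := P) π ρD m c := let ⟨s, hs⟩ := h; ⟨s, hs.trans hnm⟩

lemma exists_smallLE {c : HopfRep.Comod k O V} (h : K981.Small (P := P) π ρD c) :
    ∃ n, SmallLE (P := P) π ρD n c := let ⟨s⟩ := h; ⟨s.n, s, le_rfl⟩

lemma smallLE_of_subsingleton [Subsingleton V] (c : HopfRep.Comod k O V) (n : ℕ) :
    SmallLE (P := P) π ρD n c := by
  have hs : ∀ (W : Submodule P V) (x : V ⊗[k] O), mq (k := k) (O := O) W x = 0 := by
    intro W x
    have : x = 0 := by
      induction x with
      | zero => rfl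
      | add a b ha hb => rw [ha, hb, add_zero]
      | tmul a b => rw [Subsingleton.elim a 0, TensorProduct.zero_tmul]
    rw [this, map_zero]
  refine ⟨⟨0, fun _ => ⊤, fun _ => le_rfl, rfl, Subsingleton.elim _ _, fun i w _ => hs _ _,
    fun i p hp v _ => trivial, fun i p x hx v _ => hs _ _⟩, Nat.zero_le n⟩

theorem SmallLE.of_injective [Module.Flat k O] {n : ℕ} {c : HopfRep.Comod k O V} {c' : HopfRep.Comod k O V'}
    (f : V →ₗ[P] V') (hf : Equi c c' f) (hinj : Function.Injective f) (h : SmallLE (P := P) π ρD n c') :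
    SmallLE (P := P) π ρD n c := by
  obtain ⟨s, hn⟩ := h
  refine ⟨⟨s.n, fun i => (s.F i).comap f, fun i => Submodule.comap_mono (s.anti i), by simp [s.zero], ?_,
    fun i => (s.stable i).comap hf, fun i p hp v hv => ?_, fun i p x hx v hv => ?_⟩, hn⟩
  · simp only [s.last]
    exact LinearMap.ker_eq_bot.2 hinj
  · simp only [Submodule.mem_comap, map_smul]
    exact s.ker_smul i p hp _ hv
  · apply mq_comap f
    rw [map_sub, act_rTensor, ← hf, ← hf, map_smul]
    exact s.semi i p x hx _ hv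

/-- **Tensor product of a small object with a comodule.** -/
theorem SmallLE.tensor {n : ℕ} {c : HopfRep.Comod k O V} (d : HopfRep.Comod k O F)
    (h : SmallLE (P := P) π ρD n c) :
    SmallLE (P := P) π ρD n (ComodTens.Comod.tensor c d) := by
  obtain ⟨s, hn⟩ := h
  refine ⟨⟨s.n, fun i => tW F (s.F i), ?_, ?_, ?_, ?_, ?_, ?_⟩, hn⟩
  · intro i y hy
    exact tW_le_iff (tW F (s.F i)).toAddSubmonoid (fun w hw f => tmul_mem_tW (s.anti i hw) f) hy
  · rw [s.zero, tW, LinearMap.range_eq_top]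
    intro y
    induction y with
    | zero => exact ⟨0, map_zero _⟩
    | add a b ha hb =>
      obtain ⟨a', rfl⟩ := ha
      obtain ⟨b', rfl⟩ := hb
      exact ⟨a' + b', map_add _ _ _⟩
    | tmul v f => exact ⟨(⟨v, trivial⟩ : (⊤ : Submodule P V)) ⊗ₜ[k] f, by simp⟩
  · rw [s.last, eq_bot_iff]
    intro y hy
    refine tW_le_iff (⊥ : AddSubmonoid _) (fun w hw f => ?_) hy
    rw [Submodule.mem_bot] at hw
    rw [hw, TensorProduct.zero_tmul]
    exact zero_mem _
  · intro i y hy
    refine tW_le_iff (LinearMap.ker (mq (k := k) (O := O) (tW F (s.F i)) ∘ₗ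
      (ComodTens.Comod.tensor c d).coact)).toAddSubmonoid (fun w hw f => ?_) hy
    change mq (k := k) (O := O) (tW F (s.F i)) ((ComodTens.Comod.tensor c d).coact (w ⊗ₜ[k] f)) = 0
    rw [tensor_coact]
    exact mq_bb _ _ (s.stable i w hw) _
  · intro i p hp y hy
    refine tW_le_iff ((tW F (s.F (i + 1))).comap (LinearMap.lsmul P (V ⊗[k] F) p)).toAddSubmonoid
      (fun w hw f => ?_) hy
    change p • (w ⊗ₜ[k] f) ∈ tW F (s.F (i + 1))
    rw [TensorProduct.smul_tmul']
    exact tmul_mem_tW (s.ker_smul i p hp w hw) f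
  · intro i p x hx y hy
    let g : V ⊗[k] F →ₗ[k] ((V ⊗[k] F) ⧸ tW (k := k) F (s.F (i + 1))) ⊗[k] O :=
      mq (k := k) (O := O) (tW F (s.F (i + 1))) ∘ₗ
      ((ComodTens.Comod.tensor c d).coact ∘ₗ (Algebra.lsmul k k (V ⊗[k] F) p) -
        (act k O P (V ⊗[k] F) x) ∘ₗ (ComodTens.Comod.tensor c d).coact)
    refine tW_le_iff (LinearMap.ker g).toAddSubmonoid (fun w hw f => ?_) hy
    change mq (k := k) (O := O) (tW F (s.F (i + 1)))
      ((ComodTens.Comod.tensor c d).coact (p • (w ⊗ₜ[k] f)) -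
        act k O P (V ⊗[k] F) x ((ComodTens.Comod.tensor c d).coact (w ⊗ₜ[k] f))) = 0
    rw [TensorProduct.smul_tmul', tensor_coact, tensor_coact, act_bb, ← map_sub, ← TensorProduct.sub_tmul]
    exact mq_bb _ _ (s.semi i p x hx w hw) _

end

end Groth.Agent.ResProp.EF.K967
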